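import Mathlib
import Cfsg.Agent.Core.Basics
import Cfsg.Agent.Core.PCore
import Cfsg.Agent.Core.Fitting
import Cfsg.Agent.Char.Frobenius
import Cfsg.Agent.Coprime.Tools
import Cfsg.Agent.Fusion.FixedPointFree
import Cfsg.Agent.Fusion.ThompsonComplement

/-!
A finite group with an abelian maximal subgroup is solvable; so is a finite group in which every
centralizer of a non-central element is a maximal subgroup.
-/

set_option autoImplicit false

namespace Cfsg.Agent.CentMax

open Subgroup

variable {G : Type*} [Group G] [Finite G]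

theorem isCoatom_map {G' : Type*} [Group G'] {f : G →* G'} (hs : Function.Surjective f)
    {M : Subgroup G} (hker : f.ker ≤ M) (hM : IsCoatom M) : IsCoatom (M.map f) := by
  refine ⟨fun e => hM.1 ?_, fun K hK => ?_⟩
  · rw [← comap_map_eq_self hker, e, comap_top]
  · have h := (comap_lt_comap_of_surjective hs).mpr hK
    rw [comap_map_eq_self hker] at h
    rw [← map_comap_eq_self_of_surjective hs K, hM.2 _ h, map_top_of_surjective f hs]

omit [Finite G] in
/-- A group with a normal maximal subgroup has commutative quotient by it. -/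
theorem isSolvable_quotient_of_isCoatom (M : Subgroup G) [M.Normal] (hM : IsCoatom M) :
    Group.IsSolvable (G ⧸ M) := by
  have hs := QuotientGroup.mk'_surjective M
  have h1 : ∀ K : Subgroup (G ⧸ M), K = ⊥ ∨ K = ⊤ := by
    intro K
    have hMK : M ≤ K.comap (QuotientGroup.mk' M) :=
      (QuotientGroup.ker_mk' M).symm.le.trans (ker_le_comap _ _)
    rcases eq_or_lt_of_le hMK with h | h
    · left
      rw [← map_comap_eq_self_of_surjective hs K, ← h, QuotientGroup.map_mk'_self]
    · right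
      rw [← map_comap_eq_self_of_surjective hs K, hM.2 _ h, map_top_of_surjective _ hs]
  refine Group.isSolvable_of_comm fun a b => ?_
  rcases h1 (zpowers a) with h | h
  · rw [zpowers_eq_bot] at h
    simp [h]
  · obtain ⟨i, hi⟩ := mem_zpowers_iff.mp (h.symm ▸ mem_top b : b ∈ zpowers a)
    rw [← hi]
    exact (Commute.self_zpow a i).eq

/-- A finite group with an abelian maximal subgroup is solvable (Herstein). -/
theorem isSolvable_of_abelian_coatom {M : Subgroup G} (hM : IsCoatom M)
    (hab : ∀ a ∈ M, ∀ b ∈ M, a * b = b * a) : Group.IsSolvable G := by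
  have hMs : Group.IsSolvable M :=
    Group.isSolvable_of_comm fun a b => Subtype.ext (hab a a.2 b b.2)
  by_cases hMn : M.Normal
  · exact Group.isSolvable_iff_subgroup_quotient M |>.mpr ⟨hMs, isSolvable_quotient_of_isCoatom M hM⟩
  have hN : normalizer (M : Set G) = M :=
    (eq_or_lt_of_le (le_normalizer : M ≤ normalizer (M : Set G))).elim Eq.symm fun h =>
      absurd (normalizer_eq_top_iff.mp (hM.2 _ h)) hMn
  have hZ : center G ≤ M := by
    by_contra hZ
    apply hMn
    have htop : M ⊔ center G = ⊤ := hM.2 _ (left_lt_sup.mpr hZ)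
    rw [← normalizer_eq_top_iff, eq_top_iff, ← htop, sup_le_iff]
    exact ⟨le_normalizer, fun z hz => by
      rw [mem_normalizer_iff]
      intro m
      rw [← mem_center_iff.mp hz m, mul_inv_cancel_right]⟩
  let f := QuotientGroup.mk' (center G)
  have hs : Function.Surjective f := QuotientGroup.mk'_surjective _
  have hker : f.ker ≤ M := (QuotientGroup.ker_mk' _).le.trans hZ
  set H := M.map f with hH
  have hmem : ∀ g, f g ∈ H ↔ g ∈ M := fun g => by
    rw [← mem_comap, hH, comap_map_eq_self hker]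
  have hmal : ∀ g : G ⧸ center G, g ∉ H → ∀ h ∈ H, g * h * g⁻¹ ∈ H → h = 1 := by
    intro g hg h hh hgh
    obtain ⟨g, rfl⟩ := hs g
    obtain ⟨h, rfl⟩ := hs h
    rw [hmem] at hg hh
    rw [← map_inv, ← map_mul, ← map_mul, hmem] at hgh
    by_contra hne
    have hnc : g * h * g⁻¹ ∉ center G := fun hc => hne ((QuotientGroup.eq_one_iff h).mpr (by
      have := (inferInstance : (center G).Normal).conj_mem _ hc g⁻¹
      simpa [mul_assoc] using this))
    set w := g * h * g⁻¹ with hw
    have h1 : M ≤ centralizer {w} := fun m hm => mem_centralizer_singleton_iff.mpr (hab m hm w hgh)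
    have h2 : centralizer {w} ≠ ⊤ := fun h => hnc (mem_center_iff.mpr fun a =>
      mem_centralizer_singleton_iff.mp (h ▸ mem_top a))
    have h3 : centralizer {w} = M := (eq_or_lt_of_le h1).elim Eq.symm fun h => absurd (hM.2 _ h) h2
    apply hg
    rw [← hN]
    refine mem_normalizer_fintype fun m hm => ?_
    show g * m * g⁻¹ ∈ M
    rw [← h3, mem_centralizer_singleton_iff, hw]
    calc g * m * g⁻¹ * (g * h * g⁻¹) = g * (m * h) * g⁻¹ := by group
      _ = g * (h * m) * g⁻¹ := by rw [hab m hm h hh]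
      _ = g * h * g⁻¹ * (g * m * g⁻¹) := by group
  obtain ⟨N, hNn, hNH, -⟩ := Char.frobenius_kernel H hmal
  have hHb : H ≠ ⊥ := fun h => hMn (by
    have h1 : M = center G := le_antisymm (by
      rw [← QuotientGroup.ker_mk' (center G)]; exact (map_eq_bot_iff M).mp h) hZ
    rw [h1]; infer_instance)
  obtain ⟨q, hq, hqd⟩ := Nat.exists_prime_and_dvd (n := Nat.card H) fun h => hHb (card_eq_one.mp h)
  have := Fact.mk hq
  obtain ⟨⟨c, hcH⟩, hc⟩ := exists_prime_orderOf_dvd_card' q hqd
  rw [Subgroup.orderOf_mk] at hc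
  have hc1 : c ≠ 1 := fun h => hq.one_lt.ne (by rw [← hc, h, orderOf_one])
  have hfix : N ⊓ centralizer {c} = ⊥ := by
    rw [eq_bot_iff]
    rintro n ⟨hn, hnc⟩
    rw [mem_bot]
    by_contra hn1
    by_cases hnH : n ∈ H
    · exact hn1 (disjoint_def.mp hNH.disjoint hn hnH)
    · exact hc1 (hmal n hnH c hcH (by
        rw [mem_centralizer_singleton_iff.mp hnc, mul_inv_cancel_right]; exact hcH))
  have hNs : Group.IsNilpotent N := Fusion.isNilpotent_of_fpf_prime hq (c := c)
    (hc ▸ pow_orderOf_eq_one c) (by rw [normalizer_eq_top]; exact mem_top c) hfix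
  have : Group.IsSolvable (G ⧸ center G) := by
    have := IsNilpotent.to_isSolvable (h := hNs)
    refine Group.isSolvable_iff_subgroup_quotient N |>.mpr ⟨this, ?_⟩
    refine Group.isSolvable_of_comm fun a b => ?_
    obtain ⟨a, rfl⟩ := QuotientGroup.mk_surjective a
    obtain ⟨b, rfl⟩ := QuotientGroup.mk_surjective b
    obtain ⟨⟨n1, a1⟩, rfl⟩ := hNH.2 a
    obtain ⟨⟨n2, b1⟩, rfl⟩ := hNH.2 b
    obtain ⟨a', ha', hae⟩ := a1.2
    obtain ⟨b', hb', hbe⟩ := b1.2
    simp only [QuotientGroup.mk_mul, (QuotientGroup.eq_one_iff _).mpr n1.2,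
      (QuotientGroup.eq_one_iff _).mpr n2.2, one_mul]
    rw [← QuotientGroup.mk_mul, ← QuotientGroup.mk_mul, ← hae, ← hbe, ← map_mul, ← map_mul,
      hab a' ha' b' hb']
  exact Group.isSolvable_iff_subgroup_quotient (center G) |>.mpr
    ⟨Group.isSolvable_of_comm fun a b => Subtype.ext (mem_center_iff.mp b.2 a), this⟩

/-- If `p`-elements of a group generate... : an element of odd order lies in a normal subgroup as soon
as all its primary parts do. -/
theorem mem_of_primary {F L : Subgroup G}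
    (h : ∀ p : ℕ, p.Prime → p ≠ 2 → ∀ g ∈ L, (∃ k, orderOf g = p ^ k) → g ∈ F) :
    ∀ (n : ℕ) (g : G), g ∈ L → orderOf g = n → Odd n → g ∈ F := by
  intro n
  induction n using Nat.strong_induction_on with
  | _ n ih =>
  intro g hg hgn hodd
  rcases eq_or_ne n 1 with rfl | hn1
  · rw [orderOf_eq_one_iff.mp hgn]; exact F.one_mem
  obtain ⟨q, hq, hqn⟩ := Nat.exists_prime_and_dvd hn1
  have hn0 : n ≠ 0 := hgn ▸ (orderOf_pos g).ne'
  have hq2 : q ≠ 2 := fun h => Nat.not_even_iff_odd.mpr hodd (even_iff_two_dvd.mpr (h ▸ hqn))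
  obtain ⟨a, m, hm, rfl⟩ := Nat.exists_eq_pow_mul_and_not_dvd hn0 q hq.ne_one
  have ha : a ≠ 0 := fun ha => hm (by simpa [ha] using hqn)
  have hcop : (q ^ a).Coprime m := Nat.Coprime.pow_left a (hq.coprime_iff_not_dvd.mpr hm)
  have hm0 : m ≠ 0 := fun h => hn0 (by rw [h, mul_zero])
  have h1 : g ^ m ∈ F := h q hq hq2 _ (L.pow_mem hg m)
    ⟨a, by rw [orderOf_pow_of_dvd hm0 (hgn ▸ Dvd.intro_left _ rfl), hgn,
      Nat.mul_div_cancel _ (Nat.pos_of_ne_zero hm0)]⟩
  have h2 : g ^ (q ^ a) ∈ F := by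
    have ho : orderOf (g ^ (q ^ a)) = m := by
      rw [orderOf_pow_of_dvd (pow_ne_zero _ hq.ne_zero) (hgn ▸ Dvd.intro _ rfl), hgn,
        Nat.mul_div_cancel_left _ (pow_pos hq.pos a)]
    refine ih m ?_ _ (L.pow_mem hg _) ho (Nat.Odd.of_mul_right hodd)
    exact lt_mul_left (Nat.pos_of_ne_zero hm0) (Nat.one_lt_pow ha hq.one_lt)
  have h3 : g = (g ^ m) ^ (Nat.gcdB (q ^ a) m) * (g ^ (q ^ a)) ^ (Nat.gcdA (q ^ a) m) := by
    rw [← zpow_natCast g m, ← zpow_natCast g (q ^ a), ← zpow_mul, ← zpow_mul, ← zpow_add, add_comm,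
      ← Nat.gcd_eq_gcd_ab, hcop, Nat.cast_one, zpow_one]
  rw [h3]
  exact F.mul_mem (F.zpow_mem h1 _) (F.zpow_mem h2 _)

/-- If for every odd prime `p` some normal subgroup with solvable quotient has all of its `p`-elements
in the Fitting subgroup, then the group is solvable. -/
theorem isSolvable_of_odd_parts
    (h : ∀ p : ℕ, p.Prime → p ≠ 2 → p ∣ Nat.card G → ∃ (K : Subgroup G) (_ : K.Normal),
      Group.IsSolvable (G ⧸ K) ∧ ∀ g ∈ K, (∃ k, orderOf g = p ^ k) → g ∈ fittingSubgroup G) :
    Group.IsSolvable G := by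
  classical
  let F := fittingSubgroup G
  have key : ∀ s : Finset ℕ, (∀ p ∈ s, p.Prime ∧ p ≠ 2 ∧ p ∣ Nat.card G) →
      ∃ (L : Subgroup G) (_ : L.Normal), Group.IsSolvable (G ⧸ L) ∧
        ∀ p ∈ s, ∀ g ∈ L, (∃ k, orderOf g = p ^ k) → g ∈ F := by
    intro s
    induction s using Finset.induction with
    | empty =>
      intro _
      refine ⟨⊤, inferInstance, ?_, by simp⟩
      have := QuotientGroup.subsingleton_quotient_top (G := G)
      infer_instance
    | insert p s _ ih =>
      intro hs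
      obtain ⟨L, _, hL, hLs⟩ := ih fun q hq => hs q (Finset.mem_insert_of_mem hq)
      obtain ⟨hp, hp2, hpd⟩ := hs p (Finset.mem_insert_self p s)
      obtain ⟨K, _, hK, hKp⟩ := h p hp hp2 hpd
      refine ⟨L ⊓ K, inferInstance, ?_, ?_⟩
      · refine Group.isSolvable_of_isSolvable_injective
          (f := QuotientGroup.lift (L ⊓ K) ((QuotientGroup.mk' L).prod (QuotientGroup.mk' K)) ?_) ?_
        · intro g hg
          exact Prod.ext ((QuotientGroup.eq_one_iff g).mpr hg.1) ((QuotientGroup.eq_one_iff g).mpr hg.2)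
        · rw [← MonoidHom.ker_eq_bot_iff, eq_bot_iff]
          intro q hq
          obtain ⟨g, rfl⟩ := QuotientGroup.mk_surjective q
          rw [mem_bot, QuotientGroup.eq_one_iff]
          have h1 : ((g : G ⧸ L), (g : G ⧸ K)) = 1 := hq
          exact ⟨(QuotientGroup.eq_one_iff g).mp (congrArg Prod.fst h1),
            (QuotientGroup.eq_one_iff g).mp (congrArg Prod.snd h1)⟩
      · intro q hq g hg hgq
        rcases Finset.mem_insert.mp hq with rfl | hq
        · exact hKp g hg.2 hgq
        · exact hLs q hq g hg.1 hgq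
  obtain ⟨L, _, hLq, hLp⟩ := key ((Nat.card G).primeFactors.erase 2) fun p hp => by
    obtain ⟨hne, hp⟩ := Finset.mem_erase.mp hp
    exact ⟨Nat.prime_of_mem_primeFactors hp, hne, Nat.dvd_of_mem_primeFactors hp⟩
  have hodd : ∀ g ∈ L, Odd (orderOf g) → g ∈ F := fun g hg ho =>
    mem_of_primary (fun p hp hp2 g hg hgp => by
      obtain ⟨k, hk⟩ := hgp
      rcases eq_or_ne k 0 with rfl | hk0
      · rw [pow_zero, orderOf_eq_one_iff] at hk; rw [hk]; exact F.one_mem
      refine hLp p (Finset.mem_erase.mpr ⟨hp2, Nat.mem_primeFactors.mpr ⟨hp, ?_, Nat.card_pos.ne'⟩⟩)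
        g hg ⟨k, hk⟩
      exact (hk ▸ dvd_pow_self p hk0).trans (_root_.orderOf_dvd_natCard g)) _ g hg rfl ho
  have h2 : IsPGroup 2 (L.map (QuotientGroup.mk' F)) := by
    rintro ⟨_, g, hg, rfl⟩
    obtain ⟨a, m, hm, ho⟩ := Nat.exists_eq_pow_mul_and_not_dvd (orderOf_pos g).ne' 2 (by norm_num)
    refine ⟨a, Subtype.ext ?_⟩
    show (QuotientGroup.mk' F g) ^ 2 ^ a = 1
    rw [← map_pow]
    refine (QuotientGroup.eq_one_iff _).mpr (hodd _ (L.pow_mem hg _) ?_)
    rw [orderOf_pow_of_dvd (by positivity) (ho ▸ Dvd.intro _ rfl), ho,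
      Nat.mul_div_cancel_left _ (by positivity)]
    exact Nat.odd_iff.mpr (Nat.two_dvd_ne_zero.mp hm)
  have : Fact (Nat.Prime 2) := ⟨Nat.prime_two⟩
  have := h2.isNilpotent
  have hLs : Group.IsSolvable L := by
    have h3 : Group.IsSolvable (L.map (QuotientGroup.mk' F)) := IsNilpotent.to_isSolvable
    have h4 : Group.IsSolvable F := IsNilpotent.to_isSolvable (h := Core.fittingSubgroup_isNilpotent)
    have h5 : Group.IsSolvable (L ⊓ F : Subgroup G) := Core.isSolvable_mono h4 inf_le_right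
    exact Group.isSolvable_of_ker_le_range (inclusion (inf_le_left : L ⊓ F ≤ L))
      ((QuotientGroup.mk' F).subgroupMap L) fun y hy =>
        ⟨⟨y, y.2, (QuotientGroup.eq_one_iff (y : G)).mp (congrArg Subtype.val hy)⟩, Subtype.ext rfl⟩
  exact Group.isSolvable_iff_subgroup_quotient L |>.mpr ⟨hLs, hLq⟩

/-- A finite group in which centralizers of non-central elements are maximal is solvable. -/
theorem isSolvable_of_centralizers_maximal
    (h : ∀ g : G, g ∉ center G → IsCoatom (centralizer ({g} : Set G))) : Group.IsSolvable G := by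
  by_contra hns
  refine hns (isSolvable_of_odd_parts fun p hp hp2 hpd => ?_)
  have := Fact.mk hp
  by_cases hex : ∀ g : G, (∃ k, orderOf g = p ^ k) → g ∈ center G
  · refine ⟨⊤, inferInstance, ?_, fun g _ hg => ?_⟩
    · have := QuotientGroup.subsingleton_quotient_top (G := G)
      infer_instance
    · exact Core.le_fittingSubgroup_of_isMulCommutative (N := center G) (hex g hg)
  push Not at hex
  obtain ⟨x, ⟨kx, hkx⟩, hxc⟩ := hex
  set C := centralizer ({x} : Set G) with hC
  have hCmax := h x hxc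
  have hxC : x ∈ C := mem_centralizer_singleton_iff.mpr rfl
  -- elements of `C` of order prime to `p` are central in `C`
  have hprime : ∀ y ∈ C, (orderOf y).Coprime p → ∀ c ∈ C, c * y = y * c := by
    intro y hy hyp
    by_cases hyc : y ∈ center G
    · exact fun c _ => mem_center_iff.mp hyc c
    have hxy : Commute x y := (mem_centralizer_singleton_iff.mp hy).symm
    have hcop : (orderOf x).Coprime (orderOf y) := hkx ▸ (hyp.pow_right kx).symm
    have hxmem : x ∈ zpowers (x * y) := by
      have h1 : (x * y) ^ orderOf y = x ^ orderOf y := by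
        rw [hxy.mul_pow, pow_orderOf_eq_one y, mul_one]
      obtain ⟨m, hm⟩ := exists_pow_eq_self_of_coprime hcop.symm
      have key := Subgroup.pow_mem _ (Subgroup.pow_mem _ (mem_zpowers (x * y)) (orderOf y)) m
      rwa [h1, hm] at key
    have hnc : x * y ∉ center G := fun hc => hxc (by
      obtain ⟨i, hi⟩ := mem_zpowers_iff.mp hxmem
      rw [← hi]
      exact Subgroup.zpow_mem _ hc i)
    have hle : centralizer ({x * y} : Set G) ≤ C := by
      intro a ha
      rw [mem_centralizer_singleton_iff] at ha ⊢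
      obtain ⟨i, hi⟩ := mem_zpowers_iff.mp hxmem
      rw [← hi]
      exact ((show Commute a (x * y) from ha).zpow_right i).eq
    have heq : centralizer ({x * y} : Set G) = C :=
      (eq_or_lt_of_le hle).elim id fun hlt => absurd ((h _ hnc).2 _ hlt) hCmax.1
    intro c hc
    have h1 : c * x = x * c := mem_centralizer_singleton_iff.mp hc
    have h2 : c * (x * y) = x * y * c := mem_centralizer_singleton_iff.mp (heq.symm ▸ hc)
    rw [← mul_assoc, h1, mul_assoc, mul_assoc] at h2
    exact mul_left_cancel h2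
  have hquot : IsPGroup p (C ⧸ center C) := by
    intro q
    obtain ⟨⟨c, hc⟩, rfl⟩ := QuotientGroup.mk_surjective q
    obtain ⟨a, m, hm, ho⟩ := Nat.exists_eq_pow_mul_and_not_dvd (orderOf_pos c).ne' p hp.ne_one
    refine ⟨a, ?_⟩
    rw [← QuotientGroup.mk_pow, QuotientGroup.eq_one_iff, mem_center_iff]
    intro d
    apply Subtype.ext
    refine hprime (c ^ p ^ a) (C.pow_mem hc _) ?_ d d.2
    rw [orderOf_pow_of_dvd (pow_ne_zero _ hp.ne_zero) (ho ▸ Dvd.intro _ rfl), ho,
      Nat.mul_div_cancel_left _ (pow_pos hp.pos a)]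
    exact ((hp.coprime_iff_not_dvd).mpr hm).symm
  have hCnil : Group.IsNilpotent C := of_quotient_center_nilpotent hquot.isNilpotent
  obtain ⟨R⟩ : Nonempty (Sylow p C) := inferInstance
  set R' : Subgroup G := (R : Subgroup C).map C.subtype with hR'
  have hR'p : IsPGroup p R' := R.isPGroup'.map _
  have hRn : (R : Subgroup C).Normal :=
    ((Group.isNilpotent_of_finite_tfae (G := C)).out 0 3 rfl rfl).mp hCnil p inferInstance R
  have hR'C : R' ≤ C := map_subtype_le _
  have hCR : C ≤ normalizer (R' : Set G) := by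
    intro c hc
    refine mem_normalizer_fintype fun y hy => ?_
    obtain ⟨r, hr, rfl⟩ := hy
    exact ⟨⟨c, hc⟩ * r * ⟨c, hc⟩⁻¹, hRn.conj_mem r hr _, rfl⟩
  have hmemR : ∀ c (hc : c ∈ C), (∃ k, orderOf c = p ^ k) → c ∈ R' := by
    intro c hc hk
    obtain ⟨k, hk⟩ := hk
    obtain ⟨S, hS⟩ := (IsPGroup.of_card (p := p) (n := k)
      (by rw [Nat.card_zpowers, Subgroup.orderOf_mk, hk]) : IsPGroup p (zpowers (⟨c, hc⟩ : C))).exists_le_sylow
    have := R.unique_of_normal hRn
    rw [Subsingleton.elim S R] at hS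
    exact ⟨⟨c, hc⟩, hS (mem_zpowers _), rfl⟩
  rcases eq_or_lt_of_le hCR with hNC | hlt
  swap
  · -- the Sylow subgroup of `C` is normal: `G` is solvable
    exfalso
    apply hns
    have htop := hCmax.2 _ hlt
    have := normalizer_eq_top_iff.mp htop
    have hRs : Group.IsSolvable R' := IsNilpotent.to_isSolvable (h := hR'p.isNilpotent)
    let f := QuotientGroup.mk' R'
    refine Group.isSolvable_iff_subgroup_quotient R' |>.mpr ⟨hRs, ?_⟩
    refine isSolvable_of_abelian_coatom (M := C.map f)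
      (isCoatom_map (QuotientGroup.mk'_surjective _) (by rw [QuotientGroup.ker_mk']; exact hR'C) hCmax) ?_
    rintro _ ⟨a, ha, rfl⟩ _ ⟨b, hb, rfl⟩
    -- modulo `R'`, `a` is a power of an element which is central in `C`
    obtain ⟨e, m, hm, ho⟩ := Nat.exists_eq_pow_mul_and_not_dvd (orderOf_pos a).ne' p hp.ne_one
    have hcop : (p ^ e).Coprime m := Nat.Coprime.pow_left e (hp.coprime_iff_not_dvd.mpr hm)
    have hm0 : m ≠ 0 := fun h => (orderOf_pos a).ne' (by rw [ho, h, mul_zero])
    have h1 : f (a ^ m) = 1 := (QuotientGroup.eq_one_iff _).mpr (hmemR _ (C.pow_mem ha m)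
      ⟨e, by rw [orderOf_pow_of_dvd hm0 (ho ▸ Dvd.intro_left _ rfl), ho,
        Nat.mul_div_cancel _ (Nat.pos_of_ne_zero hm0)]⟩)
    have h2 : Commute (f (a ^ p ^ e)) (f b) := by
      refine Commute.map ?_ f
      have hcop2 : (orderOf (a ^ p ^ e)).Coprime p := by
        rw [orderOf_pow_of_dvd (pow_ne_zero _ hp.ne_zero) (ho ▸ Dvd.intro _ rfl), ho,
          Nat.mul_div_cancel_left _ (pow_pos hp.pos e)]
        exact ((hp.coprime_iff_not_dvd).mpr hm).symm
      exact (hprime _ (C.pow_mem ha _) hcop2 b hb).symm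
    have h3 : f a = (f (a ^ p ^ e)) ^ (Nat.gcdA (p ^ e) m) := by
      have : a = (a ^ p ^ e) ^ (Nat.gcdA (p ^ e) m) * (a ^ m) ^ (Nat.gcdB (p ^ e) m) := by
        rw [← zpow_natCast a m, ← zpow_natCast a (p ^ e), ← zpow_mul, ← zpow_mul, ← zpow_add,
          ← Nat.gcd_eq_gcd_ab, hcop, Nat.cast_one, zpow_one]
      conv_lhs => rw [this]
      rw [map_mul, map_zpow, map_zpow, h1, one_zpow, mul_one]
    rw [h3]
    exact (h2.zpow_left _).eq
  -- `R'` is a Sylow subgroup of `G` with normalizer `C`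
  obtain ⟨S, hS⟩ := hR'p.exists_le_sylow
  have hSR : (S : Subgroup G) = R' := by
    by_contra hne
    obtain ⟨y, hy, hyR, hyn⟩ : ∃ y ∈ (S : Subgroup G), y ∉ R' ∧ y ∈ normalizer (R' : Set G) := by
      have := S.isPGroup'.isNilpotent
      have hlt : R'.subgroupOf (S : Subgroup G) < ⊤ := lt_top_iff_ne_top.mpr fun h =>
        hne (le_antisymm (subgroupOf_eq_top.mp h) hS)
      obtain ⟨⟨y, hy⟩, hyn, hyR⟩ := SetLike.exists_of_lt (normalizerCondition_of_isNilpotent _ hlt)
      refine ⟨y, hy, hyR, mem_normalizer_fintype fun z hz => ?_⟩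
      exact (mem_normalizer_iff.mp hyn ⟨z, hS hz⟩).mp hz
    have hyk : ∃ k, orderOf y = p ^ k := by
      obtain ⟨k, hk⟩ := IsPGroup.iff_orderOf.mp S.isPGroup' ⟨y, hy⟩
      exact ⟨k, by rwa [Subgroup.orderOf_mk] at hk⟩
    exact hyR (hmemR y (hNC.symm ▸ hyn) hyk)
  set U := pCore p G with hU
  have hUR : U ≤ R' := hSR ▸ Core.pCore_le_sylow S
  have hUC : U ≤ C := hUR.trans hR'C
  let f := QuotientGroup.mk' U
  have hfs : Function.Surjective f := QuotientGroup.mk'_surjective U
  have hCm : IsCoatom (C.map f) := isCoatom_map hfs (by rw [QuotientGroup.ker_mk']; exact hUC) hCmax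
  let P : Sylow p (G ⧸ U) := S.mapSurjective hfs
  have hP : (P : Subgroup (G ⧸ U)) = R'.map f := by rw [Sylow.coe_mapSurjective, hSR]
  have hCnil' : Group.IsNilpotent (C.map f) := Core.isNilpotent_map hCnil f
  have hPne : (P : Subgroup (G ⧸ U)) ≠ ⊥ := by
    intro hb
    rw [hP, Subgroup.map_eq_bot_iff, QuotientGroup.ker_mk'] at hb
    apply hCmax.1
    rw [← hC, hNC, le_antisymm hb hUR]
    exact normalizer_eq_top (H := U)
  have key : ∀ W : Subgroup (G ⧸ U), W ≤ (P : Subgroup (G ⧸ U)) → W ≠ ⊥ →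
      C.map f ≤ normalizer (W : Set (G ⧸ U)) →
      HasNormalPComplement p (normalizer (W : Set (G ⧸ U)) : Subgroup (G ⧸ U)) := by
    intro W hWP hW hle
    rcases eq_or_lt_of_le hle with heq | hlt
    · rw [← heq]; exact Fusion.hasNormalPComplement_of_isNilpotent hCnil'
    · exfalso
      have := normalizer_eq_top_iff.mp (hCm.2 _ hlt)
      exact hW (le_bot_iff.mp (Core.pCore_quotient_eq_bot (p := p) (G := G) ▸
        Core.le_pCore (P.isPGroup'.to_le hWP)))
  have hCP : C.map f ≤ normalizer ((P : Subgroup (G ⧸ U)) : Set (G ⧸ U)) := by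
    rw [hP]; exact (map_mono hCR).trans (le_normalizer_map f)
  have hcompl : HasNormalPComplement p (G ⧸ U) := by
    refine Fusion.hasNormalPComplement_of_thompson hp2 P ?_ ?_
    · refine key _ (map_subtype_le _) (Fusion.thompsonSubgroupOf_ne_bot P.isPGroup' hPne)
        (hCP.trans fun g hg => ?_)
      apply Coprime.mem_normalizer_of_conj_smul_eq
      rw [Coprime.conj_smul_eq_map, Fusion.thompsonSubgroupOf_map_of_inf_ker,
        ← Coprime.conj_smul_eq_map, Coprime.conj_smul_eq_self_of_mem_normalizer hg]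
      rw [(MonoidHom.ker_eq_bot_iff _).mpr (MulAut.conj g).injective, inf_bot_eq]
    · refine Fusion.hasNormalPComplement_of_le (centralizer_le_normalizer _)
        (key _ inf_le_left ?_ (hCP.trans fun g hg => ?_))
      · have := (Subgroup.nontrivial_iff_ne_bot _).mpr hPne
        have hnt := P.isPGroup'.center_nontrivial
        obtain ⟨z, hz⟩ := exists_ne (1 : center (P : Subgroup (G ⧸ U)))
        intro hb
        apply hz
        have : ((z : (P : Subgroup (G ⧸ U))) : G ⧸ U) ∈ (P : Subgroup (G ⧸ U)) ⊓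
            centralizer ((P : Subgroup (G ⧸ U)) : Set (G ⧸ U)) :=
          ⟨z.1.2, mem_centralizer_iff.mpr fun a ha =>
            congrArg Subtype.val (mem_center_iff.mp z.2 ⟨a, ha⟩)⟩
        rw [hb, mem_bot] at this
        exact Subtype.ext (Subtype.ext this)
      · apply Coprime.mem_normalizer_of_conj_smul_eq
        rw [Coprime.conj_smul_eq_map, Fusion.map_inf_centralizer_of_inf_ker,
          ← Coprime.conj_smul_eq_map, Coprime.conj_smul_eq_self_of_mem_normalizer hg]
        rw [(MonoidHom.ker_eq_bot_iff _).mpr (MulAut.conj g).injective, inf_bot_eq]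
  have := Fusion.pResidual_characteristic (p := p) (G := G ⧸ U)
  refine ⟨(pResidual p (G ⧸ U)).comap f, inferInstance, ?_, ?_⟩
  · have h1 : IsPGroup p (G ⧸ (pResidual p (G ⧸ U)).comap f) := by
      intro q
      obtain ⟨g, rfl⟩ := QuotientGroup.mk_surjective q
      obtain ⟨k, hk⟩ := (Fusion.isPGroup_quotient_pResidual (p := p) (G := G ⧸ U))
        (QuotientGroup.mk (f g))
      refine ⟨k, ?_⟩
      rw [← QuotientGroup.mk_pow, QuotientGroup.eq_one_iff, mem_comap, map_pow,
        ← QuotientGroup.eq_one_iff, QuotientGroup.mk_pow]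
      exact hk
    exact IsNilpotent.to_isSolvable (h := h1.isNilpotent)
  · rintro g hg ⟨k, hk⟩
    refine Core.pCore_le_fittingSubgroup p ((QuotientGroup.eq_one_iff g).mp ?_)
    have h1 : orderOf (f g) ∣ p ^ k := hk ▸ orderOf_map_dvd f g
    have h2 : (orderOf (f g)).Coprime (p ^ k) :=
      (Nat.Coprime.coprime_dvd_left (Subgroup.orderOf_dvd_natCard (pResidual p (G ⧸ U)) hg)
        (Fusion.coprime_card_pResidual_of_hasNormalPComplement hcompl)).pow_right k
    exact orderOf_eq_one_iff.mp (Nat.eq_one_of_dvd_coprimes h2 dvd_rfl h1)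

end Cfsg.Agent.CentMax
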